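import Groth.Agent.SplitRibbon7.Alg
import Groth.Agent.DCat.ClosedPush
import Groth.Agent.Coherent.QcohOps
import Groth.Prelude.Def_ClSub2

/-! The split ribbon of an invertible module. -/

set_option autoImplicit false
set_option linter.style.haveILetI false
set_option backward.isDefEq.respectTransparency false
set_option backward.isDefEq.respectTransparency.types false
set_option maxHeartbeats 1000000

universe u

open CategoryTheory CategoryTheory.Limits AlgebraicGeometry TopologicalSpace Opposite TrivSqZeroExt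
open Groth.Agent.Coherent

noncomputable section

namespace Groth.Agent.SplitRibbon7

variable {D : Scheme.{u}} (L : D.Modules) [Coh.IsQCoh L]

abbrev C : Scheme.{u} := (alg L).spec

abbrev p : C L ⟶ D := (alg L).π

def sec : D ⟶ C L := H8Lim.toSpec (𝟙 D) (A := alg L) (fstNat L)

theorem str_fst : str L ≫ fstNat L = (𝟙 D : D ⟶ D).c :=
  NatTrans.ext (funext fun U => CommRingCat.hom_ext (RingHom.ext fun (x : Γ(D, U.unop)) =>
    show (inl x : T L U.unop).fst = x from fst_inl _ x))

theorem sec_p : sec L ≫ p L = 𝟙 D :=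
  H8Lim.toSpec_π (A := alg L) (𝟙 D) (fstNat L) (str_fst L)

theorem p_injective : Function.Injective (p L) := by
  intro c c' h
  obtain ⟨U, hU⟩ := RelSpecLib.affineOpens_cover (p L c)
  obtain ⟨q, rfl⟩ := RelSpecLib.exists_chart_eq (alg L) U.2 c hU
  obtain ⟨q', rfl⟩ := RelSpecLib.exists_chart_eq (alg L) U.2 c' (h ▸ hU)
  rw [← Scheme.Hom.comp_apply, ← Scheme.Hom.comp_apply, (alg L).ι_π] at h
  simp only [Scheme.Hom.comp_apply] at h
  have h' := U.2.fromSpec.isOpenEmbedding.injective h
  congr 1
  have key : ∀ (P : PrimeSpectrum (T L U.1)) (x : T L U.1), x ∈ P.asIdeal ↔ inlHom Γ(D, U.1) Γ(L, U.1) x.fst ∈ P.asIdeal := by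
    intro P x
    have hn : (inr x.snd : T L U.1) ∈ P.asIdeal :=
      P.isPrime.mem_of_pow_mem 2 (by rw [pow_two, inr_mul_inr]; exact zero_mem _)
    conv_lhs => rw [← inl_fst_add_inr_snd_eq x]
    exact Ideal.add_mem_iff_left _ hn
  refine PrimeSpectrum.ext (Ideal.ext fun x => ?_)
  exact (key q x).trans ((SetLike.ext_iff.1 (congrArg PrimeSpectrum.asIdeal h') x.fst).trans (key q' x).symm)

theorem sec_p_apply (c : C L) : sec L (p L c) = c := by
  apply p_injective L
  rw [← Scheme.Hom.comp_apply, sec_p]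
  rfl

theorem preimage_eq (W : (C L).Opens) : p L ⁻¹ᵁ (sec L ⁻¹ᵁ W) = W := by
  ext c
  show sec L (p L c) ∈ W ↔ c ∈ W
  rw [sec_p_apply]

instance : IsClosedImmersion (sec L) := by
  haveI : IsClosedImmersion (sec L ≫ p L) := by rw [sec_p]; infer_instance
  exact IsClosedImmersion.of_comp (sec L) (p L)

theorem bijective_gamma (U : D.Opens) : Function.Bijective ((alg L).gammaMap.app (op U)) :=
  haveI := RelSpecLib.isIso_gammaMap (alg L)
  ConcreteCategory.bijective_of_isIso _

theorem isFinite_p (hL : PicF.IsInvertible L) : IsFinite (p L) where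
  finite_app U hU := by
    haveI : IsIso ((alg L).gammaAff U hU) := by
      rw [← (alg L).gammaMap_app U hU]
      exact (ConcreteCategory.isIso_iff_bijective _).2 (bijective_gamma L U)
    have he : (p L).app U = (alg L).str.app (op U) ≫ inv ((alg L).gammaAff U hU) := by
      rw [IsIso.eq_comp_inv]; exact (alg L).π_app_gammaAff U hU
    rw [he, CommRingCat.hom_comp]
    refine RingHom.Finite.comp (RingHom.Finite.of_surjective _ (ConcreteCategory.bijective_of_isIso _).2) ?_
    haveI : Module.Finite Γ(D, U) Γ(L, U) :=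
      ((isCoh_iff_finite_sections L).1 (PicLib.isCoh_of_isInvertible hL)).2 U hU
    show (algebraMap Γ(D, U) (T L U)).Finite
    rw [RingHom.finite_algebraMap]
    let f : Γ(D, U) × Γ(L, U) →ₗ[Γ(D, U)] T L U :=
      { toFun := fun x => inl x.1 + inr x.2
        map_add' := fun x y => by ext <;> simp
        map_smul' := fun r x => by ext <;> simp }
    exact Module.Finite.of_surjective f fun z => ⟨(z.fst, z.snd), inl_fst_add_inr_snd_eq z⟩

def gam (W : (C L).Opens) : Γ(C L, W) →+* T L (sec L ⁻¹ᵁ W) :=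
  ((alg L).gammaMap.app (op (sec L ⁻¹ᵁ W))).hom.comp
    ((C L).presheaf.map (homOfLE (preimage_eq L W).le).op).hom

theorem bijective_gam (W : (C L).Opens) : Function.Bijective (gam L W) := by
  refine (bijective_gamma L _).comp ?_
  have : IsIso ((C L).presheaf.map (homOfLE (preimage_eq L W).le).op) := by
    rw [show (homOfLE (preimage_eq L W).le).op = (eqToHom (preimage_eq L W)).op from Subsingleton.elim _ _]
    infer_instance
  exact ConcreteCategory.bijective_of_isIso ((C L).presheaf.map (homOfLE (preimage_eq L W).le).op)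

theorem gam_res {W W' : (C L).Opens} (h : W' ≤ W) (a : Γ(C L, W)) :
    gam L W' ((C L).presheaf.map (homOfLE h).op a) = res L ((sec L).preimage_mono h) (gam L W a) := by
  have h1 := congr($((alg L).gammaMap.naturality (homOfLE ((sec L).preimage_mono h)).op)
    ((C L).presheaf.map (homOfLE (preimage_eq L W).le).op a))
  refine Eq.trans ?_ h1
  show (alg L).gammaMap.app _ ((C L).presheaf.map _ ((C L).presheaf.map _ a)) = (alg L).gammaMap.app _ ((C L).presheaf.map _ ((C L).presheaf.map _ a))
  congr 1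
  rw [← CommRingCat.comp_apply, ← CommRingCat.comp_apply, ← Functor.map_comp, ← Functor.map_comp]
  rfl

theorem gam_fst (W : (C L).Opens) (a : Γ(C L, W)) : (gam L W a).fst = (sec L).app W a := by
  refine TopCat.Sheaf.eq_of_locally_eq' (F := D.sheaf)
    (fun V : {V : D.affineOpens // V.1 ≤ sec L ⁻¹ᵁ W} => V.1.1) (sec L ⁻¹ᵁ W) (fun V => homOfLE V.2)
    (fun d hd => ?_) _ _ ?_
  · obtain ⟨V, hV, hdV, hle⟩ := exists_isAffineOpen_mem_and_subset (X := D) (x := d) (U := sec L ⁻¹ᵁ W) hd
    exact Opens.mem_iSup.2 ⟨⟨⟨V, hV⟩, hle⟩, hdV⟩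
  rintro ⟨⟨V, hV⟩, hle⟩
  have hsp : sec L ⁻¹ᵁ (p L ⁻¹ᵁ V) = V := by rw [← Scheme.Hom.comp_preimage, sec_p]; rfl
  have hVW : p L ⁻¹ᵁ V ≤ W := (p L).preimage_mono hle |>.trans (preimage_eq L W).le
  have e : (𝟙 D : D ⟶ D) ⁻¹ᵁ V ≤ sec L ⁻¹ᵁ (p L ⁻¹ᵁ V) := hsp.ge
  have h1 := congr($(H8Lim.toSpec_appLE (𝟙 D) (A := alg L) (fstNat L) ⟨V, hV⟩ e) ((C L).presheaf.map (homOfLE hVW).op a))
  show D.presheaf.map (homOfLE hle).op (gam L W a).fst = D.presheaf.map (homOfLE hle).op ((sec L).app W a)
  have h2 : D.presheaf.map (homOfLE hle).op ((sec L).app W a) =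
      (sec L).appLE (p L ⁻¹ᵁ V) V hsp.ge ((C L).presheaf.map (homOfLE hVW).op a) := by
    rw [← CommRingCat.comp_apply, ← CommRingCat.comp_apply, Scheme.Hom.map_appLE]
    rfl
  refine Eq.trans ?_ (h1.symm.trans h2.symm)
  show _ = fstHom Γ(D, V) Γ(D, V) Γ(L, V) ((alg L).gammaAff V hV ((C L).presheaf.map (homOfLE hVW).op a))
  rw [← (alg L).gammaMap_app V hV]
  refine (res_fst L hle _).symm.trans ?_
  congr 1
  have h3 := congr($((alg L).gammaMap.naturality (homOfLE hle).op)
    ((C L).presheaf.map (homOfLE (preimage_eq L W).le).op a))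
  refine h3.symm.trans ?_
  show (alg L).gammaMap.app _ ((C L).presheaf.map _ ((C L).presheaf.map _ a)) = _
  congr 1
  rw [← CommRingCat.comp_apply, ← Functor.map_comp]
  rfl

abbrev I : (C L).IdealSheafData := (sec L).ker

theorem toImage_ι : (sec L).toImage ≫ (I L).subschemeι = sec L := (sec L).toImage_imageι

theorem app_eq_zero_iff (W : (C L).Opens) (a : Γ(C L, W)) :
    (I L).subschemeι.app W a = 0 ↔ (sec L).app W a = 0 := by
  have key : ∀ (s : D ⟶ C L), (sec L).toImage ≫ (I L).subschemeι = s → ((I L).subschemeι.app W a = 0 ↔ s.app W a = 0) := by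
    rintro s rfl
    rw [Scheme.Hom.comp_app, CommRingCat.comp_apply]
    exact ⟨fun h => by rw [h, map_zero], fun h => (ConcreteCategory.bijective_of_isIso ((sec L).toImage.app _)).1 (h.trans (map_zero _).symm)⟩
  exact key _ (toImage_ι L)

theorem I_sq : I L ^ 2 = ⊥ := by
  refine le_bot_iff.1 fun W => ?_
  rw [Scheme.IdealSheafData.ideal_pow, Scheme.IdealSheafData.ideal_bot, Pi.pow_apply, Pi.bot_apply,
    Scheme.Hom.ker_apply, pow_two, Ideal.mul_le]
  intro a ha b hb
  rw [RingHom.mem_ker] at ha hb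
  rw [Ideal.mem_bot]
  refine (bijective_gam L W.1).1 ?_
  rw [map_mul, map_zero]
  refine TrivSqZeroExt.ext ?_ ?_
  · rw [fst_mul, gam_fst, ha, zero_mul, fst_zero]
  · rw [snd_mul, gam_fst, gam_fst, ha, hb]; simp

def conHom : ClSub.idealMod (I L) ⟶ (Scheme.Modules.pushforward (sec L)).obj L :=
  ⟨PresheafOfModules.homMk
    { app := fun W => AddCommGrpCat.ofHom
        (AddMonoidHom.mk' (fun m => (gam L W.unop ((ClSub.idealModι (I L)).app W.unop m)).snd) fun m n => by
          rw [map_add]; exact congrArg (fun z => z.snd) (map_add (gam L W.unop) _ _))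
      naturality := fun W W' i => by
        ext m
        show (gam L W'.unop ((ClSub.idealModι (I L)).app W'.unop ((ClSub.idealMod (I L)).presheaf.map i m))).snd =
          resM L ((sec L).preimage_mono i.unop.le) (gam L W.unop ((ClSub.idealModι (I L)).app W.unop m)).snd
        rw [← res_snd, ← gam_res L i.unop.le]
        congr 2
        exact congr($((ClSub.idealModι (I L)).mapPresheaf.naturality i) m) }
    (fun W a m => by
      show (gam L W.unop ((ClSub.idealModι (I L)).app W.unop (a • m))).snd =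
        (sec L).app W.unop a • (gam L W.unop ((ClSub.idealModι (I L)).app W.unop m)).snd
      rw [Scheme.Modules.Hom.app_smul]
      refine (congrArg (fun z : T L _ => z.snd) (map_mul (gam L W.unop) (show Γ(C L, W.unop) from a)
        (show Γ(C L, W.unop) from (ClSub.idealModι (I L)).app W.unop m))).trans ?_
      rw [snd_mul]
      have h0 : (gam L W.unop (show Γ(C L, W.unop) from (ClSub.idealModι (I L)).app W.unop m)).fst = 0 :=
        (gam_fst L _ _).trans ((app_eq_zero_iff L _ _).1 (kernel_ι_app_zero _ _ m))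
      erw [h0]
      rw [op_smul_eq_smul, zero_smul, add_zero, gam_fst])⟩

theorem conHom_app (W : (C L).Opens) (m : Γ(ClSub.idealMod (I L), W)) :
    (conHom L).app W m = (gam L W ((ClSub.idealModι (I L)).app W m)).snd := rfl

instance : IsIso (conHom L) := by
  rw [Scheme.Modules.Hom.isIso_iff_isIso_app]
  intro W
  refine (ConcreteCategory.isIso_iff_bijective _).2 ⟨fun m n h => ?_, fun x => ?_⟩
  · haveI : Mono (ClSub.idealModι (I L)) := inferInstanceAs (Mono (kernel.ι _))
    refine app_injective_of_mono (ClSub.idealModι (I L)) W ((bijective_gam L W).1 (TrivSqZeroExt.ext ?_ h))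
    refine (gam_fst L _ _).trans (Eq.trans ?_ (gam_fst L _ _).symm)
    exact ((app_eq_zero_iff L _ _).1 (kernel_ι_app_zero _ _ m)).trans ((app_eq_zero_iff L _ _).1 (kernel_ι_app_zero _ _ n)).symm
  · obtain ⟨a, ha⟩ := (bijective_gam L W).2 (inr x)
    have h0 : (sec L).app W a = 0 := by rw [← gam_fst, ha, fst_inr]
    obtain ⟨m, hm⟩ := kernel_sections_exact (ClSub.toSubscheme (I L)) (U := W) a ((app_eq_zero_iff L W a).2 h0)
    refine ⟨m, (conHom_app L W m).trans ?_⟩
    change (gam L W ((ClSub.idealModι (I L)).app W m)).snd = x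
    rw [show (ClSub.idealModι (I L)).app W m = a from hm, ha, snd_inr]

theorem pullback_idealMod : Nonempty ((Scheme.Modules.pullback (sec L)).obj (ClSub.idealMod (I L)) ≅ L) :=
  ⟨(Scheme.Modules.pullback (sec L)).mapIso (asIso (conHom L)) ≪≫
    asIso ((Scheme.Modules.pullbackPushforwardAdjunction (sec L)).counit.app L)⟩

end Groth.Agent.SplitRibbon7
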