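import Groth.Agent.EGA43.QcohFP
import Groth.Agent.PicLib.FormalGen
import Groth.Agent.H8Lim.RelSpecMap
import Mathlib.Algebra.TrivSqZeroExt.Basic
import Groth.Prelude.Def_RelSpec

/-! The quasi-coherent algebra `O ⊕ L` with `L² = 0`. -/

set_option autoImplicit false
set_option linter.style.haveILetI false
set_option backward.isDefEq.respectTransparency false
set_option backward.isDefEq.respectTransparency.types false

universe u

open CategoryTheory CategoryTheory.Limits AlgebraicGeometry TopologicalSpace Opposite TrivSqZeroExt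
open Groth.Agent.Coherent

noncomputable section

namespace Groth.Agent.SplitRibbon7

variable {D : Scheme.{u}} (L : D.Modules)

instance opModule (U : D.Opens) : Module Γ(D, U)ᵐᵒᵖ Γ(L, U) :=
  Module.compHom Γ(L, U) (RingEquiv.toOpposite Γ(D, U)).symm.toRingHom

instance (U : D.Opens) : IsCentralScalar Γ(D, U) Γ(L, U) := ⟨fun _ _ => rfl⟩

abbrev T (U : D.Opens) : Type u := TrivSqZeroExt Γ(D, U) Γ(L, U)

def res {U V : D.Opens} (h : V ≤ U) : T L U →+* T L V where
  toFun x := inl (D.presheaf.map (homOfLE h).op x.fst) + inr (resM L h x.snd)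
  map_one' := by ext <;> simp
  map_mul' x y := by
    refine TrivSqZeroExt.ext ?_ ?_
    · simp
    · simp [op_smul_eq_smul]
  map_zero' := by ext <;> simp
  map_add' x y := by ext <;> simp

@[simp] theorem res_fst {U V : D.Opens} (h : V ≤ U) (x : T L U) :
    (res L h x).fst = D.presheaf.map (homOfLE h).op x.fst := by simp [res]

@[simp] theorem res_snd {U V : D.Opens} (h : V ≤ U) (x : T L U) :
    (res L h x).snd = resM L h x.snd := by simp [res]

def presh : TopCat.Presheaf CommRingCat.{u} D.carrier where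
  obj U := CommRingCat.of (T L U.unop)
  map {U V} i := CommRingCat.ofHom (res L i.unop.le)
  map_id U := by
    refine CommRingCat.hom_ext (RingHom.ext fun x => TrivSqZeroExt.ext ?_ ?_)
    · show (res L _ x).fst = x.fst
      rw [res_fst]; exact congr($(D.presheaf.map_id U) x.fst)
    · show (res L _ x).snd = x.snd
      rw [res_snd]; exact PicLib.resM_self L _ _
  map_comp {U V W} i j := by
    refine CommRingCat.hom_ext (RingHom.ext fun x => TrivSqZeroExt.ext ?_ ?_)
    · show (res L _ x).fst = (res L _ (res L _ x)).fst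
      simp only [res_fst]; exact congr($(D.presheaf.map_comp i j) x.fst)
    · show (res L _ x).snd = (res L _ (res L _ x)).snd
      simp only [res_snd]; exact (resM_resM _ _ _ _).symm

theorem isSheaf : (presh L).IsSheaf := by
  refine TopCat.Presheaf.isSheaf_of_isSheafUniqueGluing_types _ ?_ |> (TopCat.Presheaf.isSheaf_iff_isSheaf_comp (forget CommRingCat) _).2
  intro ι U sf hsf
  let F : TopCat.Sheaf CommRingCat.{u} D.carrier := D.sheaf
  let G : TopCat.Sheaf Ab.{u} D.carrier := ⟨L.presheaf, L.isSheaf⟩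
  obtain ⟨a, ha, hau⟩ := F.existsUnique_gluing U (fun i => (show T L (U i) from sf i).fst) (fun i j => by
    have := congrArg (fun z : T L (U i ⊓ U j) => z.fst) (hsf i j)
    exact ((res_fst L _ _).symm.trans this).trans (res_fst L _ _))
  obtain ⟨m, hm, hmu⟩ := G.existsUnique_gluing U (fun i => (show T L (U i) from sf i).snd) (fun i j => by
    have := congrArg (fun z : T L (U i ⊓ U j) => z.snd) (hsf i j)
    exact ((res_snd L _ _).symm.trans this).trans (res_snd L _ _))
  refine ⟨(inl a + inr m : T L (iSup U)), fun i => ?_, fun z hz => ?_⟩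
  · refine TrivSqZeroExt.ext ?_ ?_
    · refine (res_fst L _ _).trans ?_
      rw [fst_add, fst_inl, fst_inr, add_zero]
      exact ha i
    · refine (res_snd L _ _).trans ?_
      rw [snd_add, snd_inl, snd_inr, zero_add]
      exact hm i
  · refine TrivSqZeroExt.ext ?_ ?_
    · rw [show (inl a + inr m : T L (iSup U)).fst = a by simp]
      exact hau _ fun i => (res_fst L _ _).symm.trans (congrArg (fun z : T L (U i) => z.fst) (hz i))
    · rw [show (inl a + inr m : T L (iSup U)).snd = m by simp]
      exact hmu _ fun i => (res_snd L _ _).symm.trans (congrArg (fun z : T L (U i) => z.snd) (hz i))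

def str : D.presheaf ⟶ presh L where
  app U := CommRingCat.ofHom (inlHom Γ(D, U.unop) Γ(L, U.unop))
  naturality U V i := by
    refine CommRingCat.hom_ext (RingHom.ext fun x => TrivSqZeroExt.ext ?_ ?_)
    · show _ = (res L _ (inl x : T L U.unop)).fst
      rw [res_fst]; rfl
    · show _ = (res L _ (inl x : T L U.unop)).snd
      rw [res_snd, snd_inl, map_zero]; rfl

theorem isQC [Coh.IsQCoh L] : RelSpec.IsQC (presh L) (str L) := by
  intro U hU r
  letI : Algebra (T L U) (T L (D.basicOpen r)) := (res L (D.basicOpen_le r)).toAlgebra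
  show @IsLocalization (T L U) _ (Submonoid.powers (inl r : T L U)) (T L (D.basicOpen r)) _ _
  letI : Algebra Γ(D, U) Γ(D, D.basicOpen r) := (D.presheaf.map (homOfLE (D.basicOpen_le r)).op).hom.toAlgebra
  haveI : IsLocalization.Away r Γ(D, D.basicOpen r) := hU.isLocalization_basicOpen r
  have hr : ∀ n : ℕ, (inl r : T L U) ^ n = inl (r ^ n) := fun n => inl_pow r n
  refine { map_units := ?_, surj := ?_, exists_of_eq := ?_ }
  · rintro ⟨_, n, rfl⟩
    show IsUnit (res L (D.basicOpen_le r) ((inl r : T L U) ^ n))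
    rw [map_pow]
    refine IsUnit.pow n ?_
    rw [TrivSqZeroExt.isUnit_iff_isUnit_fst, res_fst]
    exact D.toRingedSpace.isUnit_res_basicOpen r
  · intro z
    obtain ⟨⟨a, ⟨_, n, rfl⟩⟩, ha⟩ := IsLocalization.surj (Submonoid.powers r) z.fst
    obtain ⟨k, m, hm⟩ := qcoh_exists_pow_smul hU L r z.snd
    refine ⟨⟨inl (r ^ k * a) + inr (r ^ n • m), ⟨_, n + k, rfl⟩⟩, ?_⟩
    show z * res L (D.basicOpen_le r) ((inl r : T L U) ^ (n + k)) = res L (D.basicOpen_le r) (inl (r ^ k * a) + inr (r ^ n • m))
    rw [hr]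
    refine TrivSqZeroExt.ext ?_ ?_
    · simp only [res_fst, fst_mul, fst_inl, fst_add, fst_inr, add_zero, map_mul, map_pow, pow_add]
      have ha' : z.fst * (D.presheaf.map (homOfLE (D.basicOpen_le r)).op r) ^ n = D.presheaf.map (homOfLE (D.basicOpen_le r)).op a := by
        rw [← map_pow]; exact ha
      rw [← mul_assoc, ha', mul_comm]
    · simp only [snd_mul, res_snd, snd_inl, snd_add, snd_inr, op_smul_eq_smul, res_fst, fst_inl, map_zero, smul_zero, zero_add, resM_smul, hm]
      rw [← mul_smul, ← map_mul, ← pow_add]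
  · intro x y hxy
    change res L (D.basicOpen_le r) x = res L (D.basicOpen_le r) y at hxy
    obtain ⟨⟨_, n, rfl⟩, hn⟩ := (IsLocalization.eq_iff_exists (Submonoid.powers r) Γ(D, D.basicOpen r)).1
      ((res_fst L _ x).symm.trans ((congrArg (fun z : T L (D.basicOpen r) => z.fst) hxy).trans (res_fst L _ y)))
    obtain ⟨k, hk⟩ := qcoh_exists_pow_smul_eq_zero hU L r (x.snd - y.snd)
      (by rw [map_sub, ← res_snd, ← res_snd, hxy, sub_self])
    refine ⟨⟨_, n + k, rfl⟩, ?_⟩
    show (inl r : T L U) ^ (n + k) * x = (inl r : T L U) ^ (n + k) * y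
    rw [hr]
    rw [smul_sub, sub_eq_zero] at hk
    refine TrivSqZeroExt.ext ?_ ?_
    · simp only [fst_mul, fst_inl, pow_add]
      have hn' : r ^ n * x.fst = r ^ n * y.fst := hn
      rw [mul_comm (r ^ n), mul_assoc, hn', ← mul_assoc]
    · simp only [snd_mul, fst_inl, snd_inl, smul_zero, add_zero, pow_add, mul_smul, hk]

def alg [Coh.IsQCoh L] : RelSpec.QCAlg D := ⟨presh L, isSheaf L, str L, isQC L⟩

def fstNat : presh L ⟶ (𝟙 D : D ⟶ D).base _* D.presheaf where
  app U := CommRingCat.ofHom (fstHom Γ(D, U.unop) Γ(D, U.unop) Γ(L, U.unop)).toRingHom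
  naturality U V i := by
    ext x
    exact res_fst L i.unop.le x

end Groth.Agent.SplitRibbon7
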